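import Cfsg.Agent.BZ.RT.Co2.Defs

/-!
# BZ / RT (S4853) : the terminal case for the prime three, statements (helper94)

* `BoxP6`, `BoxO6` : class functions on `W(E₆)` which live over the elliptic classes of `W(D₄)`;  `BoxN4` : fusion;
* `T6` : the terminal labels;  `BoxT6` : the certificate inside the Weyl group of a datum;  `BoxTm6` : the aim.
-/

set_option autoImplicit false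
set_option linter.unusedSectionVars false

namespace Cfsg.Agent.BZ.RT.Co3

open Cfsg Matrix Cfsg.Agent.DL Cfsg.Agent.DL.PP Cfsg.Agent.KZ.Lie Cfsg.Agent.HZ.Gen Cfsg.Agent.HZ.L Cfsg.Agent.OM
  Cfsg.Agent.OM.Cu Cfsg.Agent.BZ.RT.At Cfsg.Agent.DL.Uni Cfsg.Agent.BZ.TA Cfsg.Agent.BZ.TA.Cl
open Cfsg.Agent.HZ.L.X (Zc)
open Cfsg.Agent.BZ.RT.Co2 (Cs ind Hd)

/-- the path `0 - 1 - 2 - 3 - 4`, the node `5` is attached to the node `2` -/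
def E6 : Mat (Fin 6) := cm 6 (cT 2 6)

/-- the standard `D₄` -/
def P4 : RS (Fin 6) := {a | a ∈ Rc E6 ∧ a.2 0 = 0 ∧ a.2 4 = 0}

/-- class functions over the elliptic classes of `W(D₄)` -/
structure H6 (f : Mat (Fin 6) → ℂ) : Prop where
  cj : ∀ u ∈ Wc E6, ∀ A ∈ Wc E6, f (u * A) = f (A * u)
  sup : ∀ A ∈ Wc E6, f A ≠ 0 → ∃ v ∈ Wc E6, ∃ u ∈ WW P4, ¬ Eig P4 u 1 ∧ v * A = u * v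
  rel : ∀ u ∈ WW P4, Eig P4 u 1 → Cs P4 f u = 0

/-- [P6] (table) the eigenvalues are `0`, `± 12`, the support is even, the values on `W(D₄)` -/
def BoxP6 : Prop := ∀ f, H6 f →
  (∀ A ∈ Wc E6, Cs (Rc E6) (Cs (Rc E6) (Cs (Rc E6) f)) A = 144 * Cs (Rc E6) f A ∧ (f A ≠ 0 → A.det = 1)) ∧
    ∀ u ∈ WW P4, Cs (Rc E6) f u = 0 ∧ Cs (Rc E6) (Cs (Rc E6) f) u = 48 * f u

/-- [O6] (table) the odd and the even part have non zero sums -/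
def BoxO6 : Prop := ∀ f, H6 f → (∃ A ∈ Wc E6, f A ≠ 0) → ∀ x : ℤ, 1 < |x| →
  ∑ᶠ A ∈ (Wc E6 : Set (Mat (Fin 6))), Cs (Rc E6) f A * (((x • A - 1).det : ℤ) : ℂ)⁻¹ ≠ 0 ∧
    ∑ᶠ A ∈ (Wc E6 : Set (Mat (Fin 6))), Cs (Rc E6) (Cs (Rc E6) f) A * (((x • A - 1).det : ℤ) : ℂ)⁻¹ ≠ 0

/-- [N4] (table) elliptic elements of `W(D₄)` which are conjugate in `W(E₆)` are conjugate in `W(D₄)` -/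
def BoxN4 : Prop := ∀ V ∈ Wc E6, ∀ X ∈ WW P4, ∀ U ∈ WW P4, V * X = U * V → ¬ Eig P4 U 1 → ∃ a ∈ WW P4, a * X = U * a

/-- **the terminal labels for the prime three** -/
def T6 {R : Type} [Fintype R] [DecidableEq R] (Ψ : RS R) (A : Mat R) (ΨL : RS R) (c : Lb R) : Prop :=
  ∃ (P : Matrix R (Fin 6) ℤ) (Ψ₁ Ψ₂ : RS R) (ε : ℤˣ) (h : Mat (Fin 6)), Tr P (Rc E6) Ψ₁ ∧ Dec (Zc Ψ c) Ψ₁ Ψ₂ A ∧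
    (∀ b, b ∈ Zc ΨL c ↔ b ∈ Ψ₁ ∧ ∃ a ∈ P4, P *ᵥ a.2 = b.2) ∧ h ∈ WW P4 ∧ A * P = P * ((ε : ℤ) • h) ∧ (rfm '' Ψ₂).ncard < 6

/-- [Lt] the last clause of `T6` in a simply laced system of rank at most eight -/
def BoxLt : Prop := ∀ {R : Type} [Fintype R] [DecidableEq R] (Ψ Ψ₁ Ψ₂ : RS R) (P : Matrix R (Fin 6) ℤ), Z2.Bs 8 Ψ →
  (∀ a ∈ Ψ, ∀ b ∈ Ψ, a.1 ⬝ᵥ b.2 = b.1 ⬝ᵥ a.2) → Tr P (Rc E6) Ψ₁ → Ψ₁ ⊆ Ψ → Ψ₂ ⊆ Ψ → (∀ a ∈ Ψ₁, ∀ b ∈ Ψ₂, a.1 ⬝ᵥ b.2 = 0) →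
  (rfm '' Ψ₂).ncard < 6

variable {p : ℕ} [Fact p.Prime] {k : Type} [Field k] [CharP k p] [IsAlgClosed k] {Y : Type} [Group Y] {N : Type}
  [Fintype N] [DecidableEq N] {ρ : Y →* GL N k} {F : MulAut Y} {G : Subgroup Y} (D : Datum p ρ F G)

/-- **the certificate** -/
structure Ce6 [Fintype D.W] (Ψ₀ Ψ₁ : RS D.R) (w₀ : D.W) (y : D.W → ℂ) : Prop where
  sup : ∀ w, ind D Ψ₀ Ψ₁ y w ≠ 0 → ∃ x ∈ Hs D Ψ₁, w = x * w₀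
  cub : cs (fs D Ψ₁) (cs (fs D Ψ₁) (cs (fs D Ψ₁) (ind D Ψ₀ Ψ₁ y))) = (144 : ℂ) • cs (fs D Ψ₁) (ind D Ψ₀ Ψ₁ y)
  par : ∃ ε : ℂ, ∀ w, ind D Ψ₀ Ψ₁ y w ≠ 0 → sg D w = ε
  top : ∀ x ∈ Hs D Ψ₀, ind D Ψ₀ Ψ₁ y (x * w₀) = 6 * y (x * w₀)
  zero : ∀ x ∈ Hs D Ψ₀, cs (fs D Ψ₁) (ind D Ψ₀ Ψ₁ y) (x * w₀) = 0
  two : ∀ x ∈ Hs D Ψ₀, cs (fs D Ψ₁) (cs (fs D Ψ₁) (ind D Ψ₀ Ψ₁ y)) (x * w₀) = 288 * y (x * w₀)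
  odd : ∑ w, cs (fs D Ψ₁) (ind D Ψ₀ Ψ₁ y) w * (ordT D w : ℂ)⁻¹ ≠ 0
  evn : ∑ w, cs (fs D Ψ₁) (cs (fs D Ψ₁) (ind D Ψ₀ Ψ₁ y)) w * (ordT D w : ℂ)⁻¹ ≠ 0

/-- [T6] the certificate holds -/
def BoxT6 : Prop := ∀ [Fintype D.W] (j : ℕ) (B : Mat D.R) (P : Matrix D.R (Fin 6) ℤ) (Ψ₀ Ψ₁ : RS D.R) (w₀ : D.W) (μ ε : ℤˣ)
  (h : Mat (Fin 6)) (y : D.W → ℂ), St D j B → Ψ₁ ⊆ rts D → Tr P (Rc E6) Ψ₁ → (∀ b, b ∈ Ψ₀ ↔ b ∈ Ψ₁ ∧ ∃ a ∈ P4, P *ᵥ a.2 = b.2) →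
  Nm (D.Wm w₀ * B) Ψ₁ → h ∈ WW P4 → D.Wm w₀ * B * P = P * ((ε : ℤ) • h) →
  (∀ a ∈ Ψ₁, a ∉ Ψ₀ → ∃ z, IsE (D.Wm w₀ * B) ((μ : ℤ) : ℂ) z ∧ (∀ b ∈ Ψ₀, ev b.1 z = 0) ∧ ev a.1 z ≠ 0) →
  Hd D B Ψ₀ w₀ μ y → Ce6 D Ψ₀ Ψ₁ w₀ y

/-- **the aim** -/
def BoxTm6 : Prop := ∀ j B, Lie.Cq D j B 3 → Tm D j B 3 (T6 (rts D))

end Cfsg.Agent.BZ.RT.Co3
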