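import Cfsg.Agent.BZ.RT.Co3.Defs
import Cfsg.Agent.BZ.RT.Co2.E
import Cfsg.Agent.OM.Cu.CpT

/-!
# BZ / RT (S4853) : fusion of the elliptic classes of `W(D₄)` in `W(E₆)` (helper12)
-/

set_option autoImplicit false
set_option maxRecDepth 100000

namespace Cfsg.Agent.BZ.RT.Co3

open Cfsg Matrix Cfsg.Agent.HZ.L Cfsg.Agent.BZ.TA Cfsg.Agent.OM Cfsg.Agent.OM.Cu Cfsg.Agent.OM.Cu.Eng Cfsg.Agent.OM.Cu.Eng.Tb
  Cfsg.Agent.OM.Cu.Cp

namespace N4

/-- the tables -/
noncomputable def t4 : Tb where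
  n := 4
  K := 13
  R := 12
  nb := 0x441441320441
  ip := 0x3210
  rt := 0x33430000112100004424000011110000443200001110000042340000101100002434000001110000424200001010000024420000011000002244000000110000532300001000000035230000010000002252000000100000332500000001
  nx := 0xb0b0a0b0000000007080b09000000000506090a00000000040a0806000000000a0407050000000001090308000000000901020700000000080700010000000000030603000000000200050200000000060500040000000000000400
  cw := 0x2110c8458c0000000000000000000000000000000000000000000000000000000000000000000000000000000000000000000000084586000000000000000000000000000000000000000000000000000000000000000000000000000000000000000000000000298400000000000000000000000000000000000000000000000000000000000000000000000000000000000000000000000009830000000000000000000000000000000000000000000000000000000000000000000000000000000000000000000000002983000000000000000000000000000000000000000000000000000000000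00000000000000000000000000000000000000005830000000000000000000000000000000000000000000000000000000000000000000000000000000000000000000000000503000000000000000000000000000000000000000000000000000000000000000000000000000000000000000000000000098200000000000000000000000000000000000000000000000000000000000000000000000000000000000000000000000001820000000000000000000000000000000000000000000000000000000000000000000000000000000000000000000000000102000000000000000000000000000000000000000000000000000000000000000000000000000000000000000000000000008200000000000000000000000000000000000000000000000000000000000000000000000000000000000000000000000000010000000000000000000000000000000000000000000000000000000000000000000000000000000000000000000000000000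
  od := 0x2040602040404020202030201
  bd := 0x41044061616160606060a0602
  jt := 0x909090909090909090909090608070707080808060607060908090607070609060708080c0a0a0a0a0a0a0a03040a050a0a050b0b02020a0202050a0a0b0a020a040b04020a02020a0b0a0a020b03030a020202090808080808080801010809090707070707070701090701090606060606060609010601080808070607060107060101050202020202020204030200010101010101010101010101

/-- row -/
noncomputable def r4_0 : List ℕ :=
  [0x14c84, 0x2983, 0x10984, 0x582, 0x502, 0x2183, 0x2103, 0x81, 0x10c84, 0x10884, 0x402, 0x0]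

/-- row -/
noncomputable def r4_1 : List ℕ :=
  [0x10884, 0x982, 0x983, 0x181, 0x101, 0x182, 0x102, 0x0, 0x0, 0x0, 0x1, 0x0]

/-- row -/
noncomputable def r4_2 : List ℕ :=
  [0x14405, 0x503, 0x4584, 0x0, 0x0, 0x402, 0x402, 0x0, 0x181, 0x101, 0x81, 0x402]

/-- row -/
noncomputable def r4_3 : List ℕ :=
  [0x10884, 0x982, 0x983, 0x181, 0x101, 0x182, 0x102, 0x0, 0x0, 0x0, 0x1, 0x10884]

/-- row -/
noncomputable def r4_4 : List ℕ :=
  [0x10c84, 0x982, 0x983, 0x181, 0x101, 0x182, 0x102, 0x0, 0x0, 0x0, 0x1, 0x10c84]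

/-- row -/
noncomputable def r4_5 : List ℕ :=
  [0x14c84, 0x402, 0x81, 0x182, 0x102, 0x181, 0x101, 0x1, 0x10884, 0x10c84, 0x0, 0x0]

/-- row -/
noncomputable def r4_6 : List ℕ :=
  [0x4403, 0x81, 0x6504, 0x0, 0x0, 0xc82, 0x402, 0x0, 0x181, 0x101, 0x882, 0x4403]

/-- row -/
noncomputable def r4_7 : List ℕ :=
  [0x6403, 0x502, 0x4584, 0x0, 0x0, 0x402, 0x1, 0x0, 0x181, 0x101, 0xc82, 0x6403]

/-- row -/
noncomputable def r4_8 : List ℕ :=
  [0x402, 0x2983, 0x81, 0xc82, 0x1, 0x4403, 0x6403, 0x1, 0x22184, 0x32104, 0x0, 0x0]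

/-- row -/
noncomputable def r4_9 : List ℕ :=
  [0x0, 0x82, 0x403, 0x181, 0x101, 0x182, 0x102, 0x0, 0x0, 0x0, 0x1, 0x0]

/-- row -/
noncomputable def r4_10 : List ℕ :=
  [0x402, 0x82, 0x2983, 0x0, 0x0, 0x22c84, 0x26404, 0x0, 0x181, 0x101, 0x1, 0x0]

/-- row -/
noncomputable def r4_11 : List ℕ :=
  [0x81, 0x4404, 0x14404, 0x882, 0x1, 0x2884, 0x1, 0x101, 0x582, 0x26404, 0x101, 0x4c83]

/-- row -/
noncomputable def r4_12 : List ℕ :=
  [0x0, 0x81, 0x402, 0x502, 0x582, 0x2103, 0x2183, 0x2983, 0x10884, 0x10c84, 0x10984, 0x14c84]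

/-- rows -/
noncomputable def r4 : List (List ℕ) :=
  [ r4_0, r4_1, r4_2, r4_3, r4_4, r4_5, r4_6, r4_7, r4_8, r4_9, r4_10, r4_11, r4_12]

/-- the coefficients of `det (1 - x A_i)` -/
def cp4 : List (List ℤ) :=
  [[1, -4, 6, -4, 1], [1, -2, 0, 2, -1], [1, -1, 0, -1, 1], [1, 0, -2, 0, 1], [1, 0, -2, 0, 1], [1, 0, -2, 0, 1], [1, 0, 0, 0, -1], [1, 0, 0, 0, -1], [1, 0, 0, 0, -1], [1, 2, 0, -2, -1], [1, 1, 0, 1, 1], [1, 0, 2, 0, 1], [1, 4, 6, 4, 1]]

theorem ok4 : t4.Ok (cT 1 4) ![1, 1, 1, 1] 1 :=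
  ⟨bs_of (by decide +kernel), boxRs _ _ carD4, by decide +kernel, fun _ _ => rfl,
    fun i hi => rows_ok (L := r4) (i₀ := 0) (by decide +kernel) i (Nat.zero_le _) hi, aL_iff.1 (by decide +kernel)⟩

theorem cp4_ok : ∀ i < 13, cpk t4 i (cp4.getD i []) = true := by decide +kernel

/-- the nodes `1, 2, 3, 5` -/
def inc : Matrix (Fin 6) (Fin 4) ℤ := !![0, 0, 0, 0; 1, 0, 0, 0; 0, 1, 0, 0; 0, 0, 1, 0; 0, 0, 0, 0; 0, 0, 0, 1]

/-- the roots of `D₄` -/
noncomputable def p4 (t : ℕ) : Vec (Fin 4) × Vec (Fin 4) := t4.rr t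

/-- the roots of `E₆` -/
noncomputable def p6 (t : ℕ) : Vec (Fin 6) × Vec (Fin 6) := tE6a.rr t

/-- the classes of `D₄` -/
noncomputable def A4 (i : ℕ) : Mat (Fin 4) := t4.AA (cT 1 4) 1 i

theorem cl4 {X : Mat (Fin 4)} (h : X ∈ WW (Rc (cm 4 (cT 1 4)))) : ∃ i < 13, ∃ g ∈ Wc (cm 4 (cT 1 4)), A4 i * g = g * X :=
  ok4.closure (A := X) ⟨X, h, by rw [Cu.pm_one]; exact (mul_one X).symm⟩

theorem tab : (∀ t < 12, ∃ u < 36, inc *ᵥ (p4 t).2 = (p6 u).2 ∧ (p6 u).1 ᵥ* inc = (p4 t).1) ∧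
    ∀ u < 36, tE6a.co u 0 = 0 → tE6a.co u 4 = 0 → ∃ t < 12, inc *ᵥ (p4 t).2 = (p6 u).2 ∧ (p6 u).1 ᵥ* inc = (p4 t).1 := by
  decide +kernel

theorem inc_vec (v : Fin 4 → ℤ) : inc *ᵥ v = ![0, v 0, v 1, v 2, 0, v 3] := by
  funext i
  fin_cases i <;> simp [inc, mulVec, dotProduct, Fin.sum_univ_four]

/-- **`D₄` in `E₆`** -/
theorem tr4 : Cu.Tr inc (Rc (cm 4 (cT 1 4))) P4 := by
  have r6 : Cu.Rs E6 _ := okE6.rs
  have r4 : Cu.Rs (cm 4 (cT 1 4)) _ := ok4.rs
  refine ⟨fun v h => funext fun i => ?_, fun a ha => ?_, fun b hb => ?_, fun b hb b' hb' => r6.ext b hb.1 b' hb'.1,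
    fun b hb a ha => ?_⟩
  · rw [inc_vec] at h
    fin_cases i
    exacts [congrFun h 1, congrFun h 2, congrFun h 3, congrFun h 5]
  · obtain ⟨t, ht, e⟩ : ∃ t < 12, a = p4 t ∨ a = -p4 t := ok4.bs.rr_all ok4.rs ha
    obtain ⟨u, hu, e1, e2⟩ := tab.1 t ht
    have k : p6 u ∈ Rc E6 := okE6.bs.rr_mem okE6.rs u hu
    rcases e with rfl | rfl
    · exact ⟨_, ⟨k, (congrFun e1 0).symm.trans (congrFun (inc_vec _) 0), (congrFun e1 4).symm.trans (congrFun (inc_vec _) 4)⟩, e1, e2⟩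
    · exact ⟨-p6 u, ⟨r6.neg _ k, neg_eq_zero.2 ((congrFun e1 0).symm.trans (congrFun (inc_vec _) 0)),
        neg_eq_zero.2 ((congrFun e1 4).symm.trans (congrFun (inc_vec _) 4))⟩, (mulVec_neg _ _).trans (congrArg Neg.neg e1),
        (neg_vecMul _ _).trans (congrArg Neg.neg e2)⟩
  · obtain ⟨u, hu, e⟩ : ∃ u < 36, b = p6 u ∨ b = -p6 u := okE6.bs.rr_all okE6.rs hb.1
    rcases e with rfl | rfl
    · obtain ⟨t, ht, e1, e2⟩ := tab.2 u hu (Int.natCast_eq_zero.1 hb.2.1) (Int.natCast_eq_zero.1 hb.2.2)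
      exact ⟨_, ok4.bs.rr_mem ok4.rs t ht, e1, e2⟩
    · obtain ⟨t, ht, e1, e2⟩ := tab.2 u hu (Int.natCast_eq_zero.1 (neg_eq_zero.1 hb.2.1)) (Int.natCast_eq_zero.1 (neg_eq_zero.1 hb.2.2))
      exact ⟨-p4 t, r4.neg _ (ok4.bs.rr_mem ok4.rs t ht), (mulVec_neg _ _).trans (congrArg Neg.neg e1),
        (neg_vecMul _ _).trans (congrArg Neg.neg e2)⟩
  · obtain ⟨c, hc, e1, e2⟩ := r6.nm _ (r6.ww ▸ rfm_mem hb.1) a ha.1
    refine ⟨c, ⟨hc, ?_, ?_⟩, e1, e2⟩ <;> rw [← e1, Cu.rfm_mulVec, Pi.sub_apply, Pi.smul_apply]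
    · rw [ha.2.1, hb.2.1, smul_zero, sub_zero]
    · rw [ha.2.2, hb.2.2, smul_zero, sub_zero]

theorem det2 {R : Type} [Fintype R] [DecidableEq R] {A B g u : Mat R} (e : A * g = g * B) (h : u * g = 1) :
    ((2 : ℤ) • A - 1).det = ((2 : ℤ) • B - 1).det := by
  have h1 : ((2 : ℤ) • A - 1) * g = g * ((2 : ℤ) • B - 1) := by rw [sub_mul, mul_sub, smul_mul_assoc, mul_smul_comm, e, one_mul, mul_one]
  have h2 := congrArg det h1
  have h3 := congrArg det h
  rw [det_mul, det_mul, mul_comm] at h2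
  rw [det_mul, det_one] at h3
  exact mul_left_cancel₀ (right_ne_zero_of_mul (h3.trans_ne one_ne_zero)) h2

theorem det4 {X : Mat (Fin 6)} {Y : Mat (Fin 4)} (hX : X ∈ WW P4) (e : X * inc = inc * Y) :
    ((2 : ℤ) • X - 1).det = ((2 : ℤ) • Y - 1).det := by
  obtain ⟨Z, rfl, rfl⟩ := Co2.exists_Z tr4 hX e
  have h := det_one_add_mul_comm inc ((2 : ℤ) • Z)
  rw [Matrix.mul_smul, Matrix.smul_mul] at h
  convert h using 2 <;> module

theorem sep : ∀ i < 13, ∀ j < 13, ∑ k ∈ Finset.range 5, (cp4.getD i []).getD k 0 * 2 ^ k =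
    ∑ k ∈ Finset.range 5, (cp4.getD j []).getD k 0 * 2 ^ k → t4.ba j 1 = true ∨ i = j := by decide +kernel

end N4

open N4 in
/-- **[N4]** -/
theorem boxN4 : BoxN4 := by
  intro V hV X hX U hU e hn
  have r4 : Cu.Rs (cm 4 (cT 1 4)) _ := ok4.rs
  obtain ⟨X', h1, e1⟩ := tr4.ww_dn hX
  obtain ⟨U', h2, e2⟩ := tr4.ww_dn hU
  obtain ⟨i, hi, g, hg, a1⟩ := cl4 h1
  obtain ⟨j, hj, g', hg', a2⟩ := cl4 h2
  obtain ⟨v, -, v1, -⟩ := okE6.rs.inv V hV
  obtain ⟨u, -, u1, -⟩ := r4.inv g hg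
  obtain ⟨u', hu', u2, u3⟩ := r4.inv g' hg'
  have h3 := (det2 a1 u1).trans ((det4 hX e1).symm.trans ((det2 e.symm v1).symm.trans ((det4 hU e2).trans (det2 a2 u2).symm)))
  have h4 := (det_eq ok4 (cp4_ok i hi) 2).symm.trans (h3.trans (det_eq ok4 (cp4_ok j hj) 2))
  have h5 : u' * A4 j = U' * u' := by
    calc _ = u' * (A4 j * g') * u' := by rw [mul_assoc, mul_assoc, u3, mul_one]
      _ = _ := by rw [a2, ← mul_assoc, u2, one_mul]
  rcases sep i hi j hj (mul_left_cancel₀ (by decide) h4) with k | rfl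
  · obtain ⟨μ, k1, y, k2, b, -, k3⟩ : Cu.Bad (Rc (cm 4 (cT 1 4))) 1 (A4 j) := (ok4.ord hj).2.2 1 (by norm_num) k
    obtain ⟨z, z0, hz⟩ := eig_conj k2 (fun k => k3 (by simp [k, ev])) h5 u3
    rw [IsPrimitiveRoot.one_right_iff.1 k1] at hz
    refine absurd (tr4.eig_up e2 ⟨z, hz, ?_⟩) hn
    by_contra! k
    exact z0 (r4.topC z k)
  · obtain ⟨a, ha, e3⟩ := tr4.ww_up (r4.ww ▸ mul_mem hu' hg)
    refine ⟨a, ha, tr4.eq_of r4 (mul_mem ha hX) (mul_mem hU ha) ?_⟩
    rw [Cu.Tr.mul e3 e1, Cu.Tr.mul e2 e3, mul_assoc, ← a1, ← mul_assoc, h5, mul_assoc]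

end Cfsg.Agent.BZ.RT.Co3
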