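import Cfsg.Agent.BZ.RT.Co3.Defs
import Cfsg.Agent.BZ.RT.Co.E6xc

/-!
# BZ / RT (S4853) : the table boxes for `(E₆, D₄)` (helper95)
-/

set_option autoImplicit false

namespace Cfsg.Agent.BZ.RT.Co3

open Cfsg Cfsg.Agent.HZ.L

theorem H6.hy {f : Mat (Fin 6) → ℂ} (h : H6 f) : Co.E6x.Hy f := ⟨h.cj, h.sup, h.rel⟩

/-- **[P6]** -/
theorem boxP6 : BoxP6 := fun _ h => ⟨fun _ hA => ⟨h.hy.cas3 hA, h.hy.det hA⟩, fun _ hu => h.hy.top hu⟩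

/-- **[O6]** -/
theorem boxO6 : BoxO6 := fun _ h h0 x hx => h.hy.ne h0 x hx

end Cfsg.Agent.BZ.RT.Co3
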