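import Cfsg.Agent.BZ.RT.Co2.L
import Cfsg.Agent.BZ.RT.Co3.Defs

/-!
# BZ / RT (S4853) : the terminal case for the prime three, from the certificate (helper42)
-/

set_option autoImplicit false
set_option linter.unusedSectionVars false
set_option maxHeartbeats 400000

namespace Cfsg.Agent.BZ.RT.Co3

open Cfsg Matrix Cfsg.Agent.DL Cfsg.Agent.DL.PP Cfsg.Agent.KZ.Lie Cfsg.Agent.HZ.Gen Cfsg.Agent.HZ.L Cfsg.Agent.OM
  Cfsg.Agent.OM.Cu Cfsg.Agent.BZ.RT.At Cfsg.Agent.DL.Uni Cfsg.Agent.OM.On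
open Cfsg.Agent.HZ.L.X (Zc)
open Cfsg.Agent.LV.Lab (tc_self')
open Cfsg.Agent.BZ.RT.Co2 (Hd ind_J1)

theorem dl_three {q : ℕ} (h : ¬ 3 ∣ q) : ∃ μ : ℤˣ, IsPrimitiveRoot ((μ : ℤ) : ℂ) (Lie.dl 3 q) := by
  show ∃ μ : ℤˣ, IsPrimitiveRoot ((μ : ℤ) : ℂ) (orderOf (q : ZMod 3))
  rw [← ZMod.natCast_mod q 3]
  rcases (by omega : q % 3 = 1 ∨ q % 3 = 2) with e | e <;> rw [e]
  · exact ⟨1, by rw [Nat.cast_one, orderOf_one, Units.val_one, Int.cast_one]; exact IsPrimitiveRoot.one⟩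
  · exact ⟨-1, by
      rw [orderOf_eq_prime (p := 2) (by decide) (by decide), Units.val_neg, Units.val_one, Int.cast_neg, Int.cast_one]
      exact IsPrimitiveRoot.neg_one 0 (by decide)⟩

variable {p : ℕ} [Fact p.Prime] {k : Type} [Field k] [CharP k p] [IsAlgClosed k] {Y : Type} [Group Y] {N : Type}
  [Fintype N] [DecidableEq N] {ρ : Y →* GL N k} {F : MulAut Y} {G : Subgroup Y} {D : Datum p ρ F G}
  {j : ℕ} {B : Mat D.R} {c : Lbl D} {s : Sb D} {u : s.E.W} {Ψ₁ Ψ₂ : RS D.R}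
  [Fintype D.W] [Fintype ↥(GF F G)] {f : Fr D} [Fintype ↥(GF F s.K)] [Fintype s.E.W] {r : ℕ} [Fact r.Prime]
  {P : Subgroup ↥(GF F G)} {ψ : IrrCharacter ↥(GF F s.K)}

/-- the function on the top coset in the situation -/
theorem hd_of {l m n n' : ℕ} {M : Ideal AlgInt} {α : MulAut ↥(GF F G)} {𝔅 : Set (IrrCharacter ↥(GF F G))}
    {β : MulAut ↥(GF F s.K)} {lam : Vec D.R} {b : Set (IrrCharacter ↥(GF F s.K))} (S : Sit j B l r m n n' M α 𝔅 P s β lam b)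
    (hψ : ψ ∈ b) (hz' : Cz p (rts s.E)) (hc : Has (s.fr f) ψ u c) {μ : ℤˣ} (hμ : IsPrimitiveRoot ((μ : ℤ) : ℂ) (Lie.dl l (p ^ j))) :
    (∀ a ∈ Zc (rts D) c, a ∉ P1 s c → ∃ z, IsE (D.Wm (s.sw u * s.w) * B) ((μ : ℤ) : ℂ) z ∧ (∀ b ∈ P1 s c, ev b.1 z = 0) ∧ ev a.1 z ≠ 0) ∧
      Hd D B (P1 s c) (s.sw u * s.w) μ (yb f s ψ c) := by
  have el := (Lie.boxEl D).tp j B l _ M 𝔅 r P s lam b S.tp f
  obtain ⟨κ, hκ⟩ := cas1 (D := s.E) (s.fr f) S.tp.fo.qs ψ.2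
  refine ⟨fun a ha hn => ?_, fun w e => ?_, fun v hv w => ?_, ⟨_, funext fun w => (cs_apply _ _ _).trans (cas_yb (hκ c) w)⟩,
    (yb_sw f s ψ.1 c u).trans_ne hc⟩
  · obtain ⟨y, k1, k2, k3⟩ := Lie.ld_rt D j B _ r P s lam S.tp.rd S.tp.fo S.tp.rt _ hμ a ha.1 fun e => hn ⟨e, ha.2⟩
    refine ⟨y, ?_, fun b hb => k2 b hb.1, k3⟩
    rw [D.Wm_mul, mul_assoc]
    exact (Lie.Kb.isE_iff (s.mem_WW.2 ⟨u, rfl⟩) (V' := D.Wm (s.sw u)⁻¹) (by rw [← D.Wm_mul, inv_mul_cancel, D.Wm_one]) k2).2 k1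
  · obtain ⟨u', rfl, k1⟩ := yb_ne e
    refine ⟨top_mem' hz' hc k1.fx, fun k2 => el ψ hψ u' c k1 _ hμ ?_⟩
    rw [D.Wm_mul, ← s.Wm_eq, mul_assoc] at k2
    exact Cu.Eig.mono k2 fun _ h => h.1
  · obtain ⟨v, rfl⟩ := sw_of hv
    exact (yb_conj S.cq.st S.tp.fo.qs (tc_self' _ w) (rel1 hv)).symm

omit [Fintype ↥(GF F G)] in
theorem card_fs (e : Ψ₂ ⊆ rts D) : (rfm '' Ψ₂).ncard = (fs D Ψ₂).card := by
  rw [← Set.ncard_coe_finset, ← Set.ncard_image_of_injective _ D.Wm_injective]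
  refine congrArg _ (Set.ext fun A => ⟨?_, ?_⟩)
  · rintro ⟨a, ha, rfl⟩
    obtain ⟨b, hb, rfl⟩ := e ha
    exact ⟨_, mem_fs.2 ⟨_, ha, (rfm_eq hb).symm⟩, (rfm_eq hb).symm⟩
  · rintro ⟨t, ht, rfl⟩
    obtain ⟨a, ha, e⟩ := mem_fs.1 ht
    exact ⟨a, ha, e.symm⟩

omit [Fintype ↥(GF F G)] in
theorem par_cs (e : Ψ₁ ⊆ rts D) {I : D.W → ℂ} {ε : ℂ} (h : ∀ w, sg D w * I w = ε * I w) (w : D.W) :
    sg D w * cs (fs D Ψ₁) I w = -ε * cs (fs D Ψ₁) I w := by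
  rw [cs_apply, Finset.mul_sum, Finset.mul_sum]
  refine Finset.sum_congr rfl fun t ht => ?_
  have k8 := h (t * w)
  rw [sg_mul, sg_eq D t, sg_rs e (mem_fs.1 ht), Int.cast_neg, Int.cast_one] at k8
  linear_combination -k8

variable {Γ : Set (IrrCharacter ↥(GF F G))}
  (h : St D j B) (hz : Cz p (rts D)) (hz' : Cz p (rts s.E)) (hu : Hu1 D r) (hs : s.For r P) (h1 : On1 s.E) (hΓ : Cls f r Γ)
  (hT : Lab.Tight r s.ι P (ψ : GF F s.K → ℂ)) (h0 : ∃ ξ ∈ Γ, classInner (s.rs r P ξ.1) ψ ≠ 0) (hc : Has (s.fr f) ψ u c)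

include hz' hc in
theorem top_of [Fintype (Hs D Ψ₁)] (C : Ce6 D (P1 s c) Ψ₁ (s.sw u * s.w) (yb f s ψ c)) {u' : s.E.W} (e : Fx s.E u' c) :
    J1 f s c Ψ₁ ψ (s.sw u' * s.w) = 6 * classInner ψ.1 (RW (s.fr f) u' c) ∧ cs (fs D Ψ₁) (J1 f s c Ψ₁ ψ) (s.sw u' * s.w) = 0 ∧
      cs (fs D Ψ₁) (cs (fs D Ψ₁) (J1 f s c Ψ₁ ψ)) (s.sw u' * s.w) = 288 * classInner ψ.1 (RW (s.fr f) u' c) := by
  obtain ⟨x, hx, k1⟩ := top_mem' hz' hc e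
  rw [← yb_sw, k1, ← ind_J1]
  exact ⟨C.top x hx, C.zero x hx, C.two x hx⟩

include h hz hz' hu hs h1 hΓ hT h0 hc in
/-- the case `E₆` -/
theorem caseA (C : Ce6 D (P1 s c) (Zc (rts D) c) (s.sw u * s.w) (yb f s ψ c)) :
    ∃ ξ ∈ Γ, ∃ ξ' ∈ Γ, ∃ (a a' : ℤ) (J : ℕ), a ^ 2 = 1 ∧ a' ^ 2 = 1 ∧ classInner (s.rs r P ξ.1) ψ = a ∧
      classInner (s.rs r P ξ'.1) ψ = a' ∧ 0 < J ∧ (p ^ j) ^ J ≤ Nat.card ↥(GF F G) ^ 2 ∧
      ξ'.1 1 ^ 4 = ((p ^ j : ℕ) : ℂ) ^ J * ξ.1 1 ^ 4 := by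
  have := Fintype.ofFinite (Hs D (Zc (rts D) c))
  have k1 := fun u' => top_of hz' hc C (u' := u')
  obtain ⟨-, k3, ⟨ε, k4⟩, -, -, -, k5, k2⟩ := C
  rw [ind_J1] at k2 k3 k4 k5
  have k6 : ε * ε = 1 := k4 _ (((k1 u hc.fx).1).trans_ne (mul_ne_zero (by norm_num) hc)) ▸ sg_mul_self D _
  have k9 := fun K z h2 h3 => coreS h hz hz' hu hs h1 hΓ hT h0 hc (K := K) (z := z) h2 h3 (k₁ := 12) (k₂ := -12) (ε := ε)
  generalize J1 f s c (Zc (rts D) c) ψ = I at k1 k2 k3 k4 k5 k9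
  have k7 : ∀ w, sg D w * I w = ε * I w := fun w => by
    by_cases e : I w = 0
    · rw [e, mul_zero, mul_zero]
    · rw [k4 w e]
  have k8 := par_cs (X.Zc_sub (rts D) c) k7
  have k11 := par_cs (X.Zc_sub (rts D) c) k8
  generalize hI : cs (fs D (Zc (rts D) c)) I = I' at k1 k2 k3 k5 k8 k11
  generalize hI' : cs (fs D (Zc (rts D) c)) I' = I'' at k1 k2 k3 k11
  have k12 : ∀ k w, ((1 - k ^ 2 / 144 : ℂ) • I + (k / 288) • I' + (k ^ 2 / 13824 - 1 / 144) • I'') w =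
      (1 - k ^ 2 / 144) * I w + k / 288 * I' w + (k ^ 2 / 13824 - 1 / 144) * I'' w := fun _ _ => rfl
  refine k9 {0, 12, -12} (fun k => (1 - k ^ 2 / 144) • I + (k / 288) • I' + (k ^ 2 / 13824 - 1 / 144) • I'') (fun k hk => ?_) (fun w => ?_)
    (Finset.mem_insert_of_mem (Finset.mem_insert_self _ _)) (Finset.mem_insert_of_mem (Finset.mem_insert_of_mem
      (Finset.mem_singleton_self _))) (fun u' e => ?_) (fun u' e => ?_) k6 (fun w => ?_) fun e => ?_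
  · rw [map_add, map_add, map_smul, map_smul, map_smul, hI, hI', k3]
    rcases Finset.mem_insert.1 hk with rfl | hk
    · module
    rcases Finset.mem_insert.1 hk with rfl | hk
    · module
    · rw [Finset.mem_singleton.1 hk]
      module
  · rw [Finset.sum_insert (by norm_num), Finset.sum_pair (by norm_num), k12, k12, k12]
    ring
  · rw [k12, (k1 u' e).2.1, (k1 u' e).2.2]
    ring
  · rw [k12, (k1 u' e).2.1, (k1 u' e).2.2]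
    ring
  · rw [k12, k12]
    linear_combination (-24⁻¹ * ε) * k8 w - (288⁻¹ * ε) * k11 w - (288⁻¹ * I'' w - 24⁻¹ * I' w) * k6
  · rw [Finset.sum_congr rfl fun w _ => show sg D w * _ * (ordT D w : ℂ)⁻¹ =
        ε * 288⁻¹ * (I'' w * (ordT D w : ℂ)⁻¹) - ε * 24⁻¹ * (I' w * (ordT D w : ℂ)⁻¹) by
      rw [k12]
      linear_combination (288⁻¹ * (ordT D w : ℂ)⁻¹) * k11 w + (24⁻¹ * (ordT D w : ℂ)⁻¹) * k8 w,
      Finset.sum_congr rfl fun w _ => show _ * (ordT D w : ℂ)⁻¹ =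
        288⁻¹ * (I'' w * (ordT D w : ℂ)⁻¹) + 24⁻¹ * (I' w * (ordT D w : ℂ)⁻¹) by
      rw [k12]
      ring, Finset.sum_sub_distrib, Finset.sum_add_distrib] at e
    simp only [← Finset.mul_sum] at e
    refine mul_ne_zero k2 k5 ?_
    generalize ∑ w, I'' w * (ordT D w : ℂ)⁻¹ = a at e ⊢
    generalize ∑ w, I' w * (ordT D w : ℂ)⁻¹ = a' at e ⊢
    linear_combination (-1728) * e + 1728 * (288⁻¹ * a - 24⁻¹ * a') ^ 2 * k6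

include h hz hz' hu hs h1 hΓ hT h0 hc in
/-- the case of a second factor -/
theorem caseB (C' : Dec (Zc (rts D) c) Ψ₁ Ψ₂ (D.Wm (s.sw u * s.w) * B)) (hb : P1 s c ⊆ Ψ₁) (hn : Ψ₂.Nonempty)
    (h6 : (rfm '' Ψ₂).ncard < 6) (C : Ce6 D (P1 s c) Ψ₁ (s.sw u * s.w) (yb f s ψ c)) :
    ∃ ξ ∈ Γ, ∃ ξ' ∈ Γ, ∃ (a a' : ℤ) (J : ℕ), a ^ 2 = 1 ∧ a' ^ 2 = 1 ∧ classInner (s.rs r P ξ.1) ψ = a ∧
      classInner (s.rs r P ξ'.1) ψ = a' ∧ 0 < J ∧ (p ^ j) ^ J ≤ Nat.card ↥(GF F G) ^ 2 ∧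
      ξ'.1 1 ^ 4 = ((p ^ j : ℕ) : ℂ) ^ J * ξ.1 1 ^ 4 := by
  have := Fintype.ofFinite (Hs D Ψ₁)
  have := Fintype.ofFinite (Hs D Ψ₂)
  have k2 : ((fs D Ψ₂).card : ℝ) < (6 : ℕ) := Nat.cast_lt.2 (card_fs (f2 C') ▸ h6)
  have k3 : (2 * (fs D Ψ₂).card : ℝ) < (12 : ℕ) := (mul_lt_mul_of_pos_left k2 zero_lt_two).trans_eq (by norm_num)
  refine prodG h hz hz' hu hs h1 hΓ hT h0 hc C' hb hn (κ₀ := 12) (L := [0, -12]) (fun k hk => ?_) ?_ fun u' e => ?_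
  · rcases List.mem_cons.1 hk with rfl | hk
    · rwa [show (12 : ℂ) - 0 = (12 : ℕ) by norm_num, Complex.norm_natCast]
    · rw [List.mem_singleton.1 hk, show (12 : ℂ) - -12 = (24 : ℕ) by norm_num, Complex.norm_natCast]
      exact k3.trans (by norm_num)
  · simp only [qs_cons, qs_nil, map_sub, map_smul]
    rw [← ind_J1, C.cub]
    module
  · simp only [qs_cons, qs_nil, map_sub, map_smul]
    show cs _ (cs _ (J1 f s c Ψ₁ ψ)) _ - -12 * cs _ (J1 f s c Ψ₁ ψ) _ - 0 * _ = (12 - 0) * ((12 - -12) * 1) * _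
    rw [(top_of hz' hc C e).2.1, (top_of hz' hc C e).2.2]
    ring

omit [Fintype D.W] [Fintype ↥(GF F G)] in
/-- **the terminal case for the prime three** -/
theorem tm6_of (hT : AllD p fun D => BoxT6 D) (D : Datum p ρ F G) : BoxTm6 D := by
  intro j B _ M _
  refine Lg.of_forall fun m _ r _ hm _ n₁ n₂ α 𝔅 P s _ β lam b _ S ψ hψ f u c hc ⟨Q, Ψ₁, Ψ₂, ε, x, k1, k2, k3, k4, k5, k6⟩ => ?_
  refine pair_of S hψ f fun Γ hz' hΓ hT' h0 => ?_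
  obtain ⟨μ, hμ⟩ := dl_three (q := p ^ (j * m)) fun e =>
    S.cq.ne ((Nat.prime_dvd_prime_iff_eq Nat.prime_three Fact.out).1 (Nat.prime_three.dvd_of_dvd_pow e))
  obtain ⟨k7, k8⟩ := hd_of S hψ hz' hc hμ
  have k9 := hT (D.pow hm) _ B Q _ Ψ₁ _ μ ε x _ S.cq.st (f1 (D := D.pow hm) k2) k1 k3 k2.nm₁ k4 k5
    (fun a ha => k7 a (d1 (D := D.pow hm) k2 ha)) k8
  rcases Ψ₂.eq_empty_or_nonempty with rfl | hn
  · obtain rfl : Ψ₁ = Zc (rts (D.pow hm)) c := (k2.union.trans (Set.union_empty _)).symm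
    exact caseA S.cq.st S.cq.cz hz' S.tp.hu S.tp.fo S.on hΓ hT' h0 hc k9
  · exact caseB S.cq.st S.cq.cz hz' S.tp.hu S.tp.fo S.on hΓ hT' h0 hc k2 (fun b hb => ((k3 b).1 hb).1) hn k6 k9

end Cfsg.Agent.BZ.RT.Co3
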