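import Cfsg.Agent.BZ.RT.Co3.Defs
import Cfsg.Agent.BZ.RT.Z2Rk
import Cfsg.Agent.BZ.RT.Z2S

/-!
# BZ / RT : `boxLt`, the roots orthogonal to `E₆` give at most three reflections (helper22)
-/

set_option autoImplicit false
set_option linter.unusedSectionVars false

namespace Cfsg.Agent.BZ.RT.Co3

open Cfsg Matrix Cfsg.Agent.DL Cfsg.Agent.HZ.L Cfsg.Agent.OM.Cu Cfsg.Agent.BZ.TA Cfsg.Agent.BZ.TA.Cl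

namespace LtA

theorem tri {x y z α β γ : ℤ} (hx : -1 ≤ x ∧ x ≤ 1) (hy : -1 ≤ y ∧ y ≤ 1) (hz : -1 ≤ z ∧ z ≤ 1) (h0 : ¬ (α = 0 ∧ β = 0 ∧ γ = 0))
    (e1 : α * 2 + β * x + γ * y = 0) (e2 : α * x + β * 2 + γ * z = 0) (e3 : α * y + β * z + γ * 2 = 0) :
    x * y * z = -1 ∧ α ≠ 0 ∧ β = -x * α ∧ γ = -y * α := by
  obtain ⟨x1, x2⟩ := hx
  obtain ⟨y1, y2⟩ := hy
  obtain ⟨z1, z2⟩ := hz
  interval_cases x <;> interval_cases y <;> interval_cases z <;> omega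

theorem four {x y u v w α : ℤ} (h0 : α ≠ 0) (h1 : x * u * v = -1) (h2 : y * u * w = -1)
    (e : α * u + -x * α * v + -y * α * w = 0) : False := by
  have h3 : α * (u * u + 2) = 0 := by linear_combination u * e + α * h1 + α * h2
  exact h0 ((mul_eq_zero.1 h3).resolve_right (by nlinarith))

variable {R I : Type} [Fintype R] [DecidableEq R] [Fintype I] [DecidableEq I] {C : Mat I} {d : I → ℤ} {Q : Matrix R I ℤ}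
  {Ψ Ψ₁ Ψ₂ : RS R} {P : Matrix R (Fin 6) ℤ} {b b' : Vec R × Vec R}

theorem two (h : Car C d) (T : Tr Q (Rc C) Ψ) (hb : b ∈ Ψ) : b.1 ⬝ᵥ b.2 = 2 := by
  obtain ⟨a, ha, e, -⟩ := T.dn b hb
  rw [Z2.tr_dot T ha hb e e, RsP.two h ha]

theorem neg_mem (h : Car C d) (T : Tr Q (Rc C) Ψ) (hb : b ∈ Ψ) : -b ∈ Ψ := by
  have h2 := two h T hb
  obtain ⟨b', h3, h4, h5⟩ := T.nm b hb b hb
  refine (show b' = -b from Prod.ext ?_ (by rw [← h4, Ch.rfm_self h2]; rfl)) ▸ h3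
  rw [← vecMul_one b'.1, ← OM.Cu.rfm_sq h2, ← vecMul_vecMul, h5, OM.Cu.vecMul_rfm, h2, Prod.fst_neg]
  module

theorem le_one (h : Car C d) (T : Tr Q (Rc C) Ψ) (hb : b ∈ Ψ) (hb' : b' ∈ Ψ) (s : b.1 ⬝ᵥ b'.2 = b'.1 ⬝ᵥ b.2) (k : rfm b ≠ rfm b') :
    -1 ≤ b.1 ⬝ᵥ b'.2 ∧ b.1 ⬝ᵥ b'.2 ≤ 1 := by
  obtain ⟨a, ha, e, -⟩ := T.dn b hb
  obtain ⟨a', ha', e', -⟩ := T.dn b' hb'
  have h3 := (RsP.cauchy h ha ha' (fun h1 => k (by rw [T.ext b hb b' hb' (by rw [← e, ← e', h1])])) fun h1 => k (by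
    rw [T.ext b' hb' _ (neg_mem h T hb) (by rw [← e', h1, Prod.snd_neg, Prod.snd_neg, mulVec_neg, e]), OM.Cu.rfm_neg])).1
  rw [← Z2.tr_dot T ha hb e e', ← Z2.tr_dot T ha' hb' e' e, ← s] at h3
  exact ⟨by nlinarith, by nlinarith⟩

/-- three roots orthogonal to `E₆` are dependent -/
theorem rel (h8 : Fintype.card I ≤ 8) (T₀ : Tr Q (Rc C) Ψ) (s : ∀ a ∈ Ψ, ∀ b ∈ Ψ, a.1 ⬝ᵥ b.2 = b.1 ⬝ᵥ a.2) (T : Tr P (Rc E6) Ψ₁)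
    (h1 : Ψ₁ ⊆ Ψ) (h2 : Ψ₂ ⊆ Ψ) (o : ∀ a ∈ Ψ₁, ∀ b ∈ Ψ₂, a.1 ⬝ᵥ b.2 = 0) {b₁ b₂ b₃ : Vec R × Vec R} (k1 : b₁ ∈ Ψ₂) (k2 : b₂ ∈ Ψ₂)
    (k3 : b₃ ∈ Ψ₂) : ∃ α β γ : ℤ, ¬ (α = 0 ∧ β = 0 ∧ γ = 0) ∧
      ∀ e ∈ Ψ₂, α * (e.1 ⬝ᵥ b₁.2) + β * (e.1 ⬝ᵥ b₂.2) + γ * (e.1 ⬝ᵥ b₃.2) = 0 := by
  obtain ⟨M, m1, m2⟩ := Z2.Rk47.fac T₀ h1 T
  obtain ⟨a₁, -, e1, -⟩ := T₀.dn b₁ (h2 k1)
  obtain ⟨a₂, -, e2, -⟩ := T₀.dn b₂ (h2 k2)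
  obtain ⟨a₃, -, e3, -⟩ := T₀.dn b₃ (h2 k3)
  obtain ⟨v, v1, v2⟩ : ∃ v : Fin 6 ⊕ Fin 3 → ℤ, fromCols M (of ![a₁.2, a₂.2, a₃.2])ᵀ *ᵥ v = 0 ∧ v ≠ 0 := by
    by_contra k
    have := Z2.Rk47.card_le (fromCols M (of ![a₁.2, a₂.2, a₃.2])ᵀ) fun v hv => by_contra fun k' => k ⟨v, hv, k'⟩
    rw [Fintype.card_sum, Fintype.card_fin, Fintype.card_fin] at this
    omega
  have h3 : (of ![a₁.2, a₂.2, a₃.2])ᵀ *ᵥ (v ∘ .inr) = v (.inr 0) • a₁.2 + v (.inr 1) • a₂.2 + v (.inr 2) • a₃.2 := by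
    funext i
    simp [mulVec, dotProduct, Fin.sum_univ_three, mul_comm]
  rw [fromCols_mulVec, h3] at v1
  refine ⟨v (.inr 0), v (.inr 1), v (.inr 2), fun ⟨z1, z2, z3⟩ => v2 ?_, fun e he => ?_⟩
  · rw [z1, z2, z3, zero_smul, zero_smul, zero_smul, add_zero, add_zero, add_zero] at v1
    funext i
    rcases i with i | i
    · exact congrFun (m2 _ v1) i
    · fin_cases i
      exacts [z1, z2, z3]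
  · have h4 : e.1 ᵥ* P = 0 := funext fun i => by
      obtain ⟨b, hb, b1, -⟩ := T.up _ (RsP.mem i)
      have := (s e (h2 he) b (h1 hb)).trans (o b hb e he)
      rwa [← b1, dotProduct_mulVec, show (sp E6 i).2 = Pi.single i 1 from rfl, dotProduct_single, mul_one] at this
    have h5 := congrArg (fun x => e.1 ⬝ᵥ Q *ᵥ x) v1
    simp only [mulVec_add, mulVec_smul, mulVec_mulVec, ← m1, e1, e2, e3, dotProduct_add, dotProduct_smul, mulVec_zero, dotProduct_zero,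
      smul_eq_mul] at h5
    rwa [dotProduct_mulVec, h4, zero_dotProduct, zero_add] at h5

end LtA

open LtA in
theorem lt_three {R : Type} [Fintype R] [DecidableEq R] {Ψ Ψ₁ Ψ₂ : RS R} {P : Matrix R (Fin 6) ℤ} (h : Z2.Bs 8 Ψ)
    (s : ∀ a ∈ Ψ, ∀ b ∈ Ψ, a.1 ⬝ᵥ b.2 = b.1 ⬝ᵥ a.2) (T : Tr P (Rc E6) Ψ₁) (h1 : Ψ₁ ⊆ Ψ) (h2 : Ψ₂ ⊆ Ψ)
    (o : ∀ a ∈ Ψ₁, ∀ b ∈ Ψ₂, a.1 ⬝ᵥ b.2 = 0) : (rfm '' Ψ₂).ncard ≤ 3 := by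
  obtain ⟨m, C, d, Q, h8, hC, T₀⟩ := h
  by_contra k
  rw [not_le] at k
  obtain ⟨_, ⟨a, ha, rfl⟩, _, ⟨b, hb, rfl⟩, _, ⟨c, hc, rfl⟩, _, ⟨e, he, rfl⟩, ab, ac, ae, bc, be, ce⟩ :=
    (Set.three_lt_ncard (Set.finite_of_ncard_pos (by omega))).1 k
  have key : ∀ a ∈ Ψ₂, ∀ b ∈ Ψ₂, ∀ c ∈ Ψ₂, rfm a ≠ rfm b → rfm a ≠ rfm c → rfm b ≠ rfm c →
      (a.1 ⬝ᵥ b.2) * (a.1 ⬝ᵥ c.2) * (b.1 ⬝ᵥ c.2) = -1 ∧ ∃ α : ℤ, α ≠ 0 ∧ ∀ e ∈ Ψ₂,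
        α * (e.1 ⬝ᵥ a.2) + -(a.1 ⬝ᵥ b.2) * α * (e.1 ⬝ᵥ b.2) + -(a.1 ⬝ᵥ c.2) * α * (e.1 ⬝ᵥ c.2) = 0 := fun a ha b hb c hc ab ac bc => by
    obtain ⟨α, β, γ, h0, r⟩ := rel (by simpa using h8) T₀ s T h1 h2 o ha hb hc
    have r1 := r a ha
    have r2 := r b hb
    have r3 := r c hc
    rw [two hC T₀ (h2 ha)] at r1
    rw [two hC T₀ (h2 hb), s b (h2 hb) a (h2 ha)] at r2
    rw [two hC T₀ (h2 hc), s c (h2 hc) a (h2 ha), s c (h2 hc) b (h2 hb)] at r3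
    obtain ⟨t1, t2, rfl, rfl⟩ := tri (le_one hC T₀ (h2 ha) (h2 hb) (s _ (h2 ha) _ (h2 hb)) ab)
      (le_one hC T₀ (h2 ha) (h2 hc) (s _ (h2 ha) _ (h2 hc)) ac) (le_one hC T₀ (h2 hb) (h2 hc) (s _ (h2 hb) _ (h2 hc)) bc) h0 r1 r2 r3
    exact ⟨t1, α, t2, r⟩
  obtain ⟨-, α, h0, r⟩ := key a ha b hb c hc ab ac bc
  have r1 := r e he
  rw [s e (h2 he) a (h2 ha), s e (h2 he) b (h2 hb), s e (h2 he) c (h2 hc)] at r1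
  exact four h0 (key a ha b hb e he ab ae be).1 (key a ha c hc e he ac ae ce).1 r1

theorem boxLt : BoxLt := fun _ _ _ _ h s T h1 h2 o => (lt_three h s T h1 h2 o).trans_lt (by decide)

end Cfsg.Agent.BZ.RT.Co3
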