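import Cfsg.Agent.BZ.RT.Co3.Defs
import Cfsg.Agent.BZ.RT.Co2.E

/-!
# BZ / RT (S4853) : the terminal case for the prime three, the normaliser of `W(D₄)` in `W(E₆)` (helper94)
-/

set_option autoImplicit false
set_option linter.unusedSectionVars false

namespace Cfsg.Agent.BZ.RT.Co3

open Cfsg Matrix Cfsg.Agent.DL Cfsg.Agent.HZ.L Cfsg.Agent.OM Cfsg.Agent.OM.Cu Cfsg.Agent.BZ.RT.Z2 Cfsg.Agent.BZ.TA

variable {X U V a : Mat (Fin 6)} {v : Vec (Fin 6)} {i : Fin 6}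

theorem c6 : Car E6 fun _ => 1 := by
  rw [show (fun _ => 1 : Fin 6 → ℤ) = ![1, 1, 1, 1, 1, 1] by decide +kernel]
  exact Eng.carE6

theorem r6 : Cu.Rs E6 fun _ => 1 := boxRs _ _ c6

/-- three times the fundamental weight of the node `0` -/
def u0 : Vec (Fin 6) := ![4, 5, 6, 4, 2, 3]

/-- three times the fundamental weight of the node `4` -/
def u4 : Vec (Fin 6) := ![2, 4, 6, 5, 4, 3]

/-- the plane -/
def pv (x : ℤ × ℤ) : Vec (Fin 6) := x.1 • u0 + x.2 • u4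

/-- the images of the regular vector -/
def lv : Fin 6 → ℤ × ℤ := ![(2, 1), (-1, -2), (3, -1), (-3, 2), (1, -3), (-2, 3)]

/-- the words -/
def wl : Fin 6 → List (Fin 6) := ![[], [0, 1, 2, 3, 4, 3, 2, 1, 0, 5, 2, 1, 0, 3, 2, 1, 4, 3, 5, 2, 1, 0, 3, 4], [4, 3, 2, 1, 5, 2, 3, 4],
  [0, 1, 2, 3, 4, 5, 2, 1, 0, 3, 2, 1, 5, 2, 3, 4], [4, 3, 2, 1, 0, 5, 2, 1, 3, 2, 4, 3, 5, 2, 1, 0], [0, 1, 2, 3, 5, 2, 1, 0]]

/-- the representatives -/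
def nn (i : Fin 6) : Mat (Fin 6) := ((wl i).map fun j => rfm (sp E6 j)).prod

theorem nn_mem (i : Fin 6) : nn i ∈ Wc E6 := Submonoid.list_prod_mem _ fun x hx => by
  obtain ⟨j, -, rfl⟩ := List.mem_map.1 hx
  exact RsP.s_mem j

theorem nn_vec (i : Fin 6) (v : Vec (Fin 6)) : nn i *ᵥ v = (wl i).foldr (fun j v => rfm (sp E6 j) *ᵥ v) v := by
  rw [nn]
  induction wl i with
  | nil => exact one_mulVec v
  | cons j L ih => rw [List.map_cons, List.prod_cons, ← mulVec_mulVec, ih, List.foldr_cons]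

theorem nn_lam : ∀ i, nn i *ᵥ pv (2, 1) = pv (lv i) ∧ ∃ j, nn i *ᵥ pv (lv j) = pv (2, 1) := by
  simp only [nn_vec]
  decide +kernel

theorem pv_mul (x : ℤ × ℤ) : pv x ᵥ* E6 = x.1 • Pi.single 0 3 + x.2 • Pi.single 4 3 := by
  rw [pv, add_vecMul, smul_vecMul, smul_vecMul, show u0 ᵥ* E6 = Pi.single 0 3 by decide +kernel,
    show u4 ᵥ* E6 = Pi.single 4 3 by decide +kernel]

theorem perp4 (x : ℤ × ℤ) : Perp P4 (pv x) := fun b hb => by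
  obtain ⟨m, hm, e⟩ := r6.len b hb.1
  refine (mul_eq_zero.1 ((e _).symm.trans ?_)).resolve_left hm.ne'
  simp [fm, pv_mul, Fin.sum_univ_six, hb.2.1, hb.2.2]

theorem dom4 : Dom E6 (pv (2, 1)) := by
  unfold Dom
  decide +kernel

theorem lev4 : lev (Rc E6) (pv (2, 1)) = P4 := Set.ext fun b => ⟨fun hb =>
  have h := (ParT.zero_iff c6 dom4 hb.1).1 hb.2
  ⟨hb.1, h 0 (by decide +kernel), h 4 (by decide +kernel)⟩, fun hb => ⟨hb.1, perp4 _ b hb⟩⟩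

theorem stab4 (h : X ∈ Wc E6) (e : X *ᵥ pv (2, 1) = pv (2, 1)) : X ∈ WW P4 := lev4 ▸ ParT.stab c6 dom4 h e

theorem fix4 (h : X ∈ WW P4) (x : ℤ × ℤ) : X *ᵥ pv x = pv x := (perp4 x).fix h

theorem cong3 (h : V ∈ Wc E6) : ∀ z, ∃ z', V *ᵥ (pv (2, 1) + (3 : ℤ) • z) = pv (2, 1) + (3 : ℤ) • z' := by
  refine RsP.ind (p := fun V => ∀ z, ∃ z', V *ᵥ (pv (2, 1) + (3 : ℤ) • z) = pv (2, 1) + (3 : ℤ) • z') (fun z => ⟨z, one_mulVec _⟩)
    (fun i z => ?_) (fun u w _ _ h1 h2 z => ?_) h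
  · obtain ⟨t, ht⟩ : (3 : ℤ) ∣ (sp E6 i).1 ⬝ᵥ pv (2, 1) := by
      revert i
      decide +kernel
    refine ⟨z - (t + (sp E6 i).1 ⬝ᵥ z) • (sp E6 i).2, ?_⟩
    rw [RsP.rfm_mulVec, dotProduct_add, ht, dotProduct_smul, smul_eq_mul]
    module
  · obtain ⟨z', h3⟩ := h2 z
    obtain ⟨z'', h4⟩ := h1 z'
    exact ⟨z'', by rw [← mulVec_mulVec, h3, h4]⟩

theorem six (h : V ∈ Wc E6) (e : Perp P4 (V *ᵥ pv (2, 1))) : ∃ i, V *ᵥ pv (2, 1) = pv (lv i) := by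
  have h1 := r6.iso V h (pv (2, 1)) (pv (2, 1))
  obtain ⟨z, h2⟩ := cong3 h 0
  rw [smul_zero, add_zero] at h2
  have h3 : V *ᵥ pv (2, 1) = pv (2 + (z ᵥ* E6) 0, 1 + (z ᵥ* E6) 4) := sub_eq_zero.1 (RsP.top₀ c6 (funext fun i => by
    have h4 : i ≠ 0 → i ≠ 4 → ((V *ᵥ pv (2, 1)) ᵥ* E6) i = 0 := fun a b => (RsP.sp_dot i _).symm.trans
      (e _ ⟨RsP.mem i, Pi.single_eq_of_ne a.symm _, Pi.single_eq_of_ne b.symm _⟩)
    rw [sub_vecMul, Pi.sub_apply]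
    by_cases a : i = 0
    · subst a
      rw [h2, add_vecMul, smul_vecMul]
      simp [pv_mul]
      ring
    by_cases b : i = 4
    · subst b
      rw [h2, add_vecMul, smul_vecMul]
      simp [pv_mul]
      ring
    · simp [h4 a b, pv_mul, a, b]))
  have h4 := congrFun (h2.symm.trans h3) 0
  rw [h3] at h1 ⊢
  generalize 2 + (z ᵥ* E6) 0 = s, 1 + (z ᵥ* E6) 4 = t at h1 h4 ⊢
  simp only [fm, pv_mul, Fin.sum_univ_six] at h1
  simp [pv, u0, u4] at h1 h4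
  have h5 : s * s + s * t + t * t = 7 := by linarith
  have h6 : -3 ≤ s ∧ s ≤ 3 ∧ -3 ≤ t ∧ t ≤ 3 := ⟨by nlinarith [sq_nonneg (s + 2 * t)], by nlinarith [sq_nonneg (s + 2 * t)],
    by nlinarith [sq_nonneg (t + 2 * s)], by nlinarith [sq_nonneg (t + 2 * s)]⟩
  have key : ∀ s ∈ Finset.Icc (-3 : ℤ) 3, ∀ t ∈ Finset.Icc (-3 : ℤ) 3, s * s + s * t + t * t = 7 → 3 ∣ s - t - 1 → ∃ i, (s, t) = lv i := by
    decide +kernel
  exact (key s (Finset.mem_Icc.2 ⟨h6.1, h6.2.1⟩) t (Finset.mem_Icc.2 h6.2.2) h5 (by omega)).imp fun i hi => congrArg pv hi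

/-- the elements which keep an elliptic element in `W(D₄)` -/
theorem line4 (h : V ∈ Wc E6) (hX : X ∈ WW P4) (e : V * X = U * V) (hn : ¬ Eig P4 U 1) : ∃ i, ∃ a ∈ WW P4, V = nn i * a := by
  obtain ⟨i, h1⟩ := six h fun b hb => by
    by_contra h1
    refine hn ⟨fun i => ((V *ᵥ pv (2, 1)) i : ℂ), funext fun i => ?_, b, hb, fun h2 => h1 (Int.cast_injective (α := ℂ) ?_)⟩
    · rw [one_smul]
      refine (RingHom.map_mulVec (Int.castRingHom ℂ) U _ i).symm.trans ?_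
      rw [mulVec_mulVec, ← e, ← mulVec_mulVec, fix4 hX]
      rfl
    · rw [Int.cast_zero, ← h2]
      simp [ev, dotProduct]
  obtain ⟨m, h2, h3, h4⟩ := r6.inv _ (nn_mem i)
  exact ⟨i, m * V, stab4 (mul_mem h2 h) (by rw [← mulVec_mulVec, h1, ← (nn_lam i).1, mulVec_mulVec, h3, one_mulVec]),
    by rw [← mul_assoc, h4, one_mul]⟩

theorem norm4 (ha : a ∈ WW P4) (hX : X ∈ WW P4) (hU : U ∈ Wc E6) (e : nn i * a * X = U * (nn i * a)) : U ∈ WW P4 := by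
  obtain ⟨j, h1⟩ := (nn_lam i).2
  have h2 := congrArg (· *ᵥ pv (lv j)) e
  simp only [← mulVec_mulVec, fix4 ha, fix4 hX, h1] at h2
  exact stab4 hU h2.symm

theorem inj4 {j : Fin 6} {a' : Mat (Fin 6)} (ha : a ∈ WW P4) (ha' : a' ∈ WW P4) (e : nn i * a = nn j * a') : i = j := by
  have h2 := congrArg (· *ᵥ pv (2, 1)) e
  simp only [← mulVec_mulVec, fix4 ha, fix4 ha', (nn_lam _).1] at h2
  exact (show ∀ i j, pv (lv i) = pv (lv j) → i = j by decide +kernel) i j h2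

theorem eps_eq {μ ε : ℤˣ} {y : Fin 6 → ℂ} (h : X ∈ WW P4) (h1 : IsE ((ε : ℤ) • X) ((μ : ℤ) : ℂ) y) (h2 : ∀ b ∈ P4, ev b.1 y = 0)
    (h0 : y ≠ 0) : ε = μ := by
  have h3 : X.map (Int.cast : ℤ → ℂ) *ᵥ y = y := funext fun i => by
    have h3 := (ev_mul _ X y).trans (TrL.ev_ww h2 h (Pi.single i 1))
    simpa [ev, Pi.single_apply, dotProduct] using h3
  rw [IsE, show ((ε : ℤ) • X).map (Int.cast : ℤ → ℂ) = ((ε : ℤ) : ℂ) • X.map (Int.cast : ℤ → ℂ) from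
    Matrix.ext fun _ _ => Int.cast_mul _ _, smul_mulVec, h3] at h1
  exact Units.ext (Int.cast_injective (smul_left_injective ℂ h0 h1))

end Cfsg.Agent.BZ.RT.Co3
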